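import Mathlib

/-!
# Solutions of a staircase system of linear equations in a finite-length module
-/

set_option autoImplicit false
universe u

namespace Groth.Agent.HilbP8

variable {k : Type u} [Field k] {S : Type u} [CommRing S] [Algebra k S] {N : Type u} [AddCommGroup N]
  [Module k N] [Module S N] [IsScalarTower k S N]

theorem finrank_ker_add {V W Q : Type*} [AddCommGroup V] [Module k V] [Module.Finite k V] [AddCommGroup W]
    [Module k W] [Module.Finite k W] [AddCommGroup Q] [Module k Q] (Φ : V →ₗ[k] W) (M : W →ₗ[k] Q)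
    (hM : Function.Surjective M) (h : LinearMap.ker M = LinearMap.range Φ) :
    Module.finrank k (LinearMap.ker Φ) + Module.finrank k W = Module.finrank k V + Module.finrank k Q := by
  have h1 := Φ.finrank_range_add_finrank_ker
  have h2 := M.finrank_range_add_finrank_ker
  rw [LinearMap.range_eq_top.2 hM, finrank_top, h] at h2
  omega

theorem finrank_fin_fun' {N : Type*} [AddCommGroup N] [Module k N] [Module.Finite k N] (m : ℕ) :
    Module.finrank k (Fin m → N) = m * Module.finrank k N := by
  rw [Module.finrank_pi_fintype]; simp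

theorem le_of_bound {K A B C D Q G : ℕ} (h1 : K + A = B + Q) (h4 : B = A + D) (hQ : Q ≤ C * G) :
    K ≤ D + C * G := by omega

/-- the staircase system: `n ↦ (y n_l - z^(v_l - v_(l+1)) n_(l+1))` -/
noncomputable def stairMap (y z : S) (q : ℕ) (v : ℕ → ℕ) : (Fin (q + 1) → N) →ₗ[S] (Fin q → N) :=
  LinearMap.pi fun l => y • LinearMap.proj l.castSucc - z ^ (v l - v (l + 1)) • LinearMap.proj l.succ

theorem stairMap_apply (y z : S) (q : ℕ) (v : ℕ → ℕ) (n : Fin (q + 1) → N) (l : Fin q) :
    stairMap y z q v n l = y • n l.castSucc - z ^ (v l - v (l + 1)) • n l.succ := rfl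

set_option maxHeartbeats 800000 in
/-- The solution space exceeds `N` by at most (number of generators) × (area of the staircase). -/
theorem finrank_ker_stairMap_le [Module.Finite k N] (y z : S) {ι : Type} [Fintype ι] (G : ι → N)
    (hG : Submodule.span k (Set.range fun t : ι × ℕ × ℕ => y ^ t.2.1 • z ^ t.2.2 • G t.1) = ⊤)
    (q : ℕ) (v : ℕ → ℕ) (hv : ∀ l, v (l + 1) ≤ v l) :
    v q = 0 → Module.finrank k (LinearMap.ker ((stairMap (N := N) y z q v).restrictScalars k)) ≤
      Module.finrank k N + Fintype.card ι * ∑ l ∈ Finset.range q, v l := by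
  classical
  intro hq
  let Φ := stairMap (N := N) y z q v
  let e : ℕ → N →ₗ[S] ((Fin q → N) ⧸ LinearMap.range Φ) := fun l =>
    if h : l < q then (LinearMap.range Φ).mkQ ∘ₗ LinearMap.single S (fun _ => N) ⟨l, h⟩ else 0
  have he : ∀ l (h : l < q) w, e l w = Submodule.Quotient.mk (Pi.single ⟨l, h⟩ w) := fun l h w => by
    simp [e, h]
  have he0 : ∀ l, q ≤ l → e l = 0 := fun l h => by simp [e, not_lt.2 h]
  have hR0 : ∀ w, y • e 0 w = 0 := fun w => by
    rcases Nat.eq_zero_or_pos q with h | h
    · rw [he0 0 h.le]; simp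
    · rw [he 0 h, ← Submodule.Quotient.mk_smul, Submodule.Quotient.mk_eq_zero]
      refine ⟨Pi.single 0 w, funext fun l => ?_⟩
      rw [stairMap_apply, Pi.smul_apply, Pi.single_apply, Pi.single_apply, Pi.single_apply]
      simp [Fin.ext_iff]
  have hR1 : ∀ l, l < q → ∀ w, y • e (l + 1) w = z ^ (v l - v (l + 1)) • e l w := fun l h w => by
    let j : Fin (q + 1) := ⟨l + 1, by omega⟩
    have key : ∀ m : Fin q, Φ (Pi.single j w) m =
        (if m.1 = l + 1 then y • w else 0) - (if m.1 = l then z ^ (v l - v (l + 1)) • w else 0) := fun m => by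
      rw [stairMap_apply, Pi.single_apply, Pi.single_apply]
      simp only [j, Fin.ext_iff, Fin.val_castSucc, Fin.val_succ, smul_ite, smul_zero, Nat.add_right_cancel_iff]
      by_cases hm : m.1 = l
      · simp [hm]
      · simp [hm]
    by_cases h' : l + 1 < q
    · rw [he l h, he (l + 1) h', ← Submodule.Quotient.mk_smul, ← Submodule.Quotient.mk_smul, Submodule.Quotient.eq]
      refine ⟨Pi.single j w, funext fun m => ?_⟩
      rw [key]
      simp only [Pi.sub_apply, Pi.smul_apply, Pi.single_apply, Fin.ext_iff, smul_ite, smul_zero]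
    · rw [he0 _ (not_lt.1 h'), LinearMap.zero_apply, smul_zero, he l h, ← Submodule.Quotient.mk_smul, eq_comm,
        Submodule.Quotient.mk_eq_zero]
      refine ⟨-Pi.single j w, funext fun m => ?_⟩
      rw [map_neg, Pi.neg_apply, key]
      have hm : m.1 ≠ l + 1 := fun hm => h' (hm ▸ m.2)
      simp only [Pi.smul_apply, Pi.single_apply, Fin.ext_iff, smul_ite, smul_zero, if_neg hm, zero_sub, neg_neg]
  have hzero : ∀ m l, q ≤ l + m → ∀ w, z ^ v l • e l w = 0 := by
    intro m
    induction m with
    | zero => intro l hl w; rw [he0 l (by omega)]; simp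
    | succ m ih =>
      intro l hl w
      by_cases h : l < q
      · rw [show v l = v (l + 1) + (v l - v (l + 1)) by have := hv l; omega, pow_add, mul_smul, ← hR1 l h,
          smul_comm, ih (l + 1) (by omega), smul_zero]
      · rw [he0 l (by omega)]; simp
  let W : Submodule k ((Fin q → N) ⧸ LinearMap.range Φ) :=
    Submodule.span k (Set.range fun t : ι × (Σ l : Fin q, Fin (v l)) => z ^ (t.2.2 : ℕ) • e t.2.1 (G t.1))
  have hzW : ∀ c b l, z ^ b • e l (G c) ∈ W := fun c b l => by
    by_cases h : l < q
    · by_cases hb : b < v l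
      · exact Submodule.subset_span ⟨(c, ⟨⟨l, h⟩, ⟨b, hb⟩⟩), rfl⟩
      · rw [show b = (b - v l) + v l by omega, pow_add, mul_smul, hzero q l (by omega), smul_zero]
        exact W.zero_mem
    · rw [he0 l (by omega), LinearMap.zero_apply, smul_zero]; exact W.zero_mem
  have hyW : ∀ c a b l, y ^ a • z ^ b • e l (G c) ∈ W := fun c a => by
    induction a with
    | zero => intro b l; rw [pow_zero, one_smul]; exact hzW c b l
    | succ a ih =>
      intro b l
      rw [pow_succ, mul_smul, smul_comm y]
      cases l with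
      | zero => rw [hR0, smul_zero, smul_zero]; exact W.zero_mem
      | succ l =>
        by_cases h : l < q
        · rw [hR1 l h, ← mul_smul (z ^ b), ← pow_add]; exact ih _ _
        · rw [he0 (l + 1) (by omega), LinearMap.zero_apply, smul_zero, smul_zero, smul_zero]; exact W.zero_mem
  have heW : ∀ l w, e l w ∈ W := fun l w => by
    have hw : w ∈ Submodule.span k (Set.range fun t : ι × ℕ × ℕ => y ^ t.2.1 • z ^ t.2.2 • G t.1) := by
      rw [hG]; trivial
    have : Submodule.span k (Set.range fun t : ι × ℕ × ℕ => y ^ t.2.1 • z ^ t.2.2 • G t.1) ≤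
        W.comap ((e l).restrictScalars k) := Submodule.span_le.2 (by
      rintro _ ⟨⟨c, a, b⟩, rfl⟩
      show e l (y ^ a • z ^ b • G c) ∈ W
      rw [map_smul, map_smul]
      exact hyW c a b l)
    exact this hw
  let M := (LinearMap.range Φ).mkQ.restrictScalars k
  have hWtop : W = ⊤ := eq_top_iff.2 fun x _ => by
    obtain ⟨f, rfl⟩ := Submodule.Quotient.mk_surjective _ x
    rw [← Finset.univ_sum_single f]
    show M (∑ i, Pi.single i (f i)) ∈ W
    rw [map_sum]
    exact Submodule.sum_mem _ fun i _ => by
      show Submodule.Quotient.mk (Pi.single i (f i)) ∈ W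
      rw [← he i.1 i.2]
      exact heW _ _
  have hQ : Module.finrank k ((Fin q → N) ⧸ LinearMap.range Φ) ≤ Fintype.card ι * ∑ l ∈ Finset.range q, v l := by
    rw [← finrank_top k ((Fin q → N) ⧸ LinearMap.range Φ), ← hWtop]
    refine (finrank_range_le_card _).trans_eq ?_
    rw [Fintype.card_prod, Fintype.card_sigma, ← Fin.sum_univ_eq_sum_range]
    simp
  have h3 : LinearMap.ker M = LinearMap.range (Φ.restrictScalars k) := by
    ext x
    exact Submodule.Quotient.mk_eq_zero _
  have h5 : Function.Surjective M := fun x => Submodule.Quotient.mk_surjective _ x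
  have hd : ∀ m : ℕ, Module.finrank k (Fin m → N) = m * Module.finrank k N := finrank_fin_fun' (k := k) (N := N)
  have h1 := finrank_ker_add (Φ.restrictScalars k) M h5 h3
  rw [hd, hd] at h1
  have h4 : (q + 1) * Module.finrank k N = q * Module.finrank k N + Module.finrank k N := by ring
  exact le_of_bound h1 h4 hQ

end Groth.Agent.HilbP8
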