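import Groth.Agent.HilbP8.Tri

/-!
# Tangent vectors at an ideal containing a polynomial monic in one coordinate
-/

set_option autoImplicit false
universe u

open Polynomial

namespace Groth.Agent.HilbP8

variable {k : Type u} [Field k] {S : Type u} [CommRing S] [Algebra k S]

/-- the monomials `x^a y^b`, `a < p`, in their lexicographic order -/
def slot (x y : S) (p n : ℕ) : S := x ^ (n % p) * y ^ (n / p)

theorem slot_add (x y : S) {p : ℕ} (hp : 0 < p) (n j : ℕ) : slot x y p (n + p * j) = y ^ j * slot x y p n := by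
  simp only [slot, Nat.add_mul_mod_self_left, Nat.add_mul_div_left _ _ hp, pow_add]
  ring

/-- combinations of the first `n` of them over `k[z]` -/
def low (k : Type u) [Field k] [Algebra k S] (x y z : S) (p n : ℕ) : Submodule k S :=
  Submodule.span k (Set.range fun t : {m : ℕ // m < n} × ℕ => slot x y p t.1.1 * z ^ t.2)

theorem slot_mem_low (x y z : S) {p n m : ℕ} (h : m < n) (c : ℕ) : slot x y p m * z ^ c ∈ low k x y z p n :=
  Submodule.subset_span ⟨(⟨m, h⟩, c), rfl⟩

theorem low_mono (x y z : S) {p n n' : ℕ} (h : n ≤ n') : low k x y z p n ≤ low k x y z p n' := by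
  refine Submodule.span_le.2 ?_
  rintro _ ⟨⟨⟨m, hm⟩, c⟩, rfl⟩
  exact slot_mem_low x y z (lt_of_lt_of_le hm h) c

theorem aeval_mul_slot_mem (x y z : S) {p n m : ℕ} (h : m < n) (P : k[X]) :
    aeval z P * slot x y p m ∈ low k x y z p n := by
  rw [aeval_eq_sum_range, Finset.sum_mul]
  refine Submodule.sum_mem _ fun i _ => ?_
  rw [smul_mul_assoc, mul_comm]
  exact Submodule.smul_mem _ _ (slot_mem_low x y z h i)

theorem aeval_mul_mem_low (x y z : S) {p n : ℕ} (P : k[X]) {t : S} (ht : t ∈ low k x y z p n) :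
    aeval z P * t ∈ low k x y z p n := by
  induction ht using Submodule.span_induction with
  | mem t ht =>
    obtain ⟨⟨⟨m, hm⟩, c⟩, rfl⟩ := ht
    show aeval z P * (slot x y p m * z ^ c) ∈ _
    rw [show aeval z P * (slot x y p m * z ^ c) = aeval z (P * X ^ c) * slot x y p m by simp; ring]
    exact aeval_mul_slot_mem x y z hm _
  | zero => rw [mul_zero]; exact zero_mem _
  | add a b _ _ ha hb => rw [mul_add]; exact add_mem ha hb
  | smul r a _ ha => rw [mul_smul_comm]; exact Submodule.smul_mem _ _ ha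

theorem pow_mul_mem_low (x y z : S) {p : ℕ} (hp : 0 < p) {n : ℕ} (j : ℕ) {t : S} (ht : t ∈ low k x y z p n) :
    y ^ j * t ∈ low k x y z p (n + p * j) := by
  induction ht using Submodule.span_induction with
  | mem t ht =>
    obtain ⟨⟨⟨m, hm⟩, c⟩, rfl⟩ := ht
    show y ^ j * (slot x y p m * z ^ c) ∈ _
    rw [← mul_assoc, ← slot_add x y hp]
    exact slot_mem_low x y z (by omega) c
  | zero => rw [mul_zero]; exact zero_mem _
  | add a b _ _ ha hb => rw [mul_add]; exact add_mem ha hb
  | smul r a _ ha => rw [mul_smul_comm]; exact Submodule.smul_mem _ _ ha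

theorem exists_lead (x y z : S) {p n : ℕ} {f : S} (hf : f ∈ low k x y z p (n + 1)) :
    ∃ v : k[X], f - aeval z v * slot x y p n ∈ low k x y z p n := by
  induction hf using Submodule.span_induction with
  | mem t ht =>
    obtain ⟨⟨⟨m, hm⟩, c⟩, rfl⟩ := ht
    rcases Nat.lt_or_eq_of_le (Nat.le_of_lt_succ hm) with h | h
    · exact ⟨0, by simpa using slot_mem_low x y z h c⟩
    · exact ⟨X ^ c, by
        subst h
        simp [mul_comm]⟩
  | zero => exact ⟨0, by simp⟩
  | add a b _ _ ha hb =>
    obtain ⟨va, ha⟩ := ha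
    obtain ⟨vb, hb⟩ := hb
    refine ⟨va + vb, ?_⟩
    rw [map_add, show a + b - (aeval z va + aeval z vb) * slot x y p n =
      (a - aeval z va * slot x y p n) + (b - aeval z vb * slot x y p n) by ring]
    exact add_mem ha hb
  | smul r a _ ha =>
    obtain ⟨va, ha⟩ := ha
    refine ⟨r • va, ?_⟩
    rw [map_smul, smul_mul_assoc, ← smul_sub]
    exact Submodule.smul_mem _ _ ha

/-- evaluation of a tangent vector -/
def evalHom {I : Ideal S} (a : ↥I) : (↥I →ₗ[S] (S ⧸ I)) →ₗ[k] (S ⧸ I) where
  toFun φ := φ a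
  map_add' _ _ := rfl
  map_smul' _ _ := rfl

set_option maxHeartbeats 800000 in
/-- If `I` contains `x^p + (lower in x)`, then `Hom(I, S/I)` has dimension at most `(2p+1)·dim S/I`. -/
theorem finrank_hom_le (x y z : S)
    (hgen : Submodule.span k (Set.range fun t : ℕ × ℕ × ℕ => x ^ t.1 * y ^ t.2.1 * z ^ t.2.2) = ⊤)
    (p : ℕ) (hp : 0 < p) (I : Ideal S) [Module.Finite k (S ⧸ I)] (t₀ : S)
    (ht₀ : t₀ ∈ Submodule.span k (Set.range fun t : {a : ℕ // a < p} × ℕ × ℕ => x ^ t.1.1 * y ^ t.2.1 * z ^ t.2.2))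
    (hf₀ : x ^ p + t₀ ∈ I) :
    Module.finrank k (↥I →ₗ[S] (S ⧸ I)) ≤ (2 * p + 1) * Module.finrank k (S ⧸ I) := by
  classical
  have : Algebra.IsIntegral k (S ⧸ I) := Algebra.IsIntegral.of_finite k _
  obtain ⟨Pz, hPzm, hPz⟩ := Algebra.IsIntegral.isIntegral (R := k) (Ideal.Quotient.mkₐ k I z)
  obtain ⟨Py, hPym, hPy⟩ := Algebra.IsIntegral.isIntegral (R := k) (Ideal.Quotient.mkₐ k I y)
  rw [← aeval_def, aeval_algHom_apply] at hPz hPy
  replace hPz : aeval z Pz ∈ I := Ideal.Quotient.eq_zero_iff_mem.1 hPz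
  replace hPy : aeval y Py ∈ I := Ideal.Quotient.eq_zero_iff_mem.1 hPy
  let R := p * Py.natDegree
  let J : ℕ → Ideal k[X] := fun n =>
    { carrier := {P | ∃ t ∈ low k x y z p n, aeval z P * slot x y p n + t ∈ I}
      add_mem' := by
        rintro P Q ⟨t, ht, h⟩ ⟨t', ht', h'⟩
        exact ⟨t + t', add_mem ht ht', by
          convert I.add_mem h h' using 1
          rw [map_add]; ring⟩
      zero_mem' := ⟨0, zero_mem _, by simp⟩
      smul_mem' := by
        rintro Q P ⟨t, ht, h⟩
        refine ⟨aeval z Q * t, aeval_mul_mem_low x y z Q ht, ?_⟩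
        rw [smul_eq_mul, map_mul, mul_assoc, ← mul_add]
        exact I.mul_mem_left _ h }
  have hJz : ∀ n, Pz ∈ J n := fun n => ⟨0, zero_mem _, by rw [add_zero]; exact I.mul_mem_right _ hPz⟩
  let w : ℕ → k[X] := fun n => Submodule.IsPrincipal.generator (J n)
  have hwJ : ∀ n, w n ∈ J n := fun n => Submodule.IsPrincipal.generator_mem _
  have hdvd : ∀ n P, P ∈ J n → w n ∣ P := fun n P h => (Submodule.IsPrincipal.mem_iff_generator_dvd _).1 h
  have hw0 : ∀ n, w n ≠ 0 := fun n h => hPzm.ne_zero (zero_dvd_iff.1 (h ▸ hdvd n Pz (hJz n)))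
  choose tw htw hgI using hwJ
  let g : ℕ → S := fun n => aeval z (w n) * slot x y p n + tw n
  have hgl : ∀ n, g n ∈ low k x y z p (n + 1) := fun n =>
    add_mem (aeval_mul_slot_mem x y z (Nat.lt_succ_self n) _) (low_mono x y z (Nat.le_succ n) (htw n))
  have hdiv : ∀ n, w (n + p) ∣ w n := fun n => hdvd _ _ ⟨y ^ 1 * tw n, by
    simpa using pow_mul_mem_low x y z hp 1 (htw n), by
    rw [show slot x y p (n + p) = y ^ 1 * slot x y p n by simpa using slot_add x y hp n 1,
      show aeval z (w n) * (y ^ 1 * slot x y p n) + y ^ 1 * tw n =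
        y ^ 1 * (aeval z (w n) * slot x y p n + tw n) by ring]
    exact I.mul_mem_left _ (hgI n)⟩
  have hunit : ∀ n, R ≤ n → n < R + p → IsUnit (w n) := fun n h1 h2 => by
    refine isUnit_of_dvd_one (hdvd n 1 ?_)
    obtain ⟨i, rfl⟩ := Nat.exists_eq_add_of_le h1
    refine ⟨∑ b ∈ Finset.range Py.natDegree, Py.coeff b • slot x y p (i + p * b),
      Submodule.sum_mem _ fun b hb => Submodule.smul_mem _ _ ?_, ?_⟩
    · have hlt : i + p * b < R + i := by
        have h5 : p * (b + 1) ≤ p * Py.natDegree := Nat.mul_le_mul_left p (Finset.mem_range.1 hb)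
        rw [Nat.mul_succ] at h5
        simp only [R]; omega
      simpa using slot_mem_low (k := k) x y z hlt 0
    · have h5 : slot x y p i * aeval y Py ∈ I := I.mul_mem_left _ hPy
      rw [aeval_eq_sum_range, Finset.sum_range_succ, hPym.coeff_natDegree, one_smul, mul_add, Finset.mul_sum] at h5
      rw [map_one, _root_.one_mul, add_comm (p * Py.natDegree) i, slot_add x y hp, mul_comm, add_comm]
      convert h5 using 2
      refine Finset.sum_congr rfl fun b _ => ?_
      rw [slot_add x y hp, mul_smul_comm, mul_comm]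
  have hs : ∀ n, ∃ s, w n = w (n + p) * s := hdiv
  choose s hs using hs
  -- expansions in the generators
  have hred : ∀ L, ∀ f ∈ I, f ∈ low k x y z p L → ∃ c : ℕ → k[X], (∀ m, L ≤ m → c m = 0) ∧
      f = ∑ m ∈ Finset.range L, aeval z (c m) * g m := by
    intro L
    induction L with
    | zero =>
      intro f _ hf
      refine ⟨fun _ => 0, fun _ _ => rfl, ?_⟩
      have : f ∈ (⊥ : Submodule k S) := (Submodule.span_le.2 (by rintro _ ⟨⟨⟨m, hm⟩, c⟩, rfl⟩; omega) : low k x y z p 0 ≤ ⊥) hf
      simpa using this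
    | succ L ih =>
      intro f hfI hf
      obtain ⟨v, hv⟩ := exists_lead x y z hf
      obtain ⟨u, rfl⟩ := hdvd L v ⟨_, hv, by simpa using hfI⟩
      obtain ⟨c, hc0, hc⟩ := ih (f - aeval z u * g L) (I.sub_mem hfI (I.mul_mem_left _ (hgI L))) (by
        rw [show f - aeval z u * g L = (f - aeval z (w L * u) * slot x y p L) - aeval z u * tw L by
          simp only [g, map_mul]; ring]
        exact sub_mem hv (aeval_mul_mem_low x y z u (htw L)))
      refine ⟨Function.update c L u, fun m hm => ?_, ?_⟩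
      · rw [Function.update_of_ne (by omega)]; exact hc0 m (by omega)
      · rw [Finset.sum_range_succ, Function.update_self, ← sub_eq_iff_eq_add, hc]
        refine Finset.sum_congr rfl fun m hm => ?_
        rw [Function.update_of_ne (ne_of_lt (Finset.mem_range.1 hm))]
  -- generation
  let f₀ : S := x ^ p + t₀
  let Gens : Ideal S := Ideal.span (insert f₀ (Set.range fun m : Fin (R + p) => g m.1))
  have hgen1 : ∀ L, ∀ f ∈ I, f ∈ low k x y z p L → f ∈ Gens := by
    intro L
    induction L with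
    | zero =>
      intro f hfI hf
      obtain ⟨c, -, hc⟩ := hred 0 f hfI hf
      rw [hc]; simp
    | succ L ih =>
      intro f hfI hf
      rcases le_or_gt (L + 1) (R + p) with hL | hL
      · obtain ⟨c, -, hc⟩ := hred (L + 1) f hfI hf
        rw [hc]
        exact Gens.sum_mem fun m hm => Gens.mul_mem_left _
          (Ideal.subset_span (Or.inr ⟨⟨m, lt_of_lt_of_le (Finset.mem_range.1 hm) hL⟩, rfl⟩))
      obtain ⟨v, hv⟩ := exists_lead x y z hf
      let j := (L - R) / p
      let m := R + (L - R) % p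
      have hm : m < R + p := Nat.add_lt_add_left (Nat.mod_lt _ hp) R
      have hLm : L = m + p * j := by
        have h5 := Nat.mod_add_div (L - R) p
        show L = R + (L - R) % p + p * ((L - R) / p); omega
      obtain ⟨u, rfl⟩ := (hunit m (Nat.le_add_right _ _) hm).dvd (a := v)
      have e : f - y ^ j * (aeval z u * g m) = (f - aeval z (w m * u) * slot x y p L) -
          y ^ j * (aeval z u * tw m) := by
        rw [hLm, slot_add x y hp]; simp only [g, map_mul]; ring
      have hgm : y ^ j * (aeval z u * g m) ∈ Gens :=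
        Gens.mul_mem_left _ (Gens.mul_mem_left _ (Ideal.subset_span (Or.inr ⟨⟨m, hm⟩, rfl⟩)))
      have := ih (f - y ^ j * (aeval z u * g m))
        (I.sub_mem hfI (I.mul_mem_left _ (I.mul_mem_left _ (hgI m)))) (by
          rw [e]
          refine sub_mem hv ?_
          rw [hLm]
          exact pow_mul_mem_low x y z hp j (aeval_mul_mem_low x y z u (htw m)))
      have := Gens.add_mem this hgm
      rwa [sub_add_cancel] at this
  let LowAll : Submodule k S :=
    Submodule.span k (Set.range fun t : {a : ℕ // a < p} × ℕ × ℕ => x ^ t.1.1 * y ^ t.2.1 * z ^ t.2.2)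
  let U : Submodule k S := (Ideal.span {f₀}).restrictScalars k ⊔ LowAll
  have hU : ∀ a b c, x ^ a * y ^ b * z ^ c ∈ U := by
    intro a
    induction a using Nat.strong_induction_on with
    | _ a ih =>
      intro b c
      rcases lt_or_ge a p with h | h
      · exact Submodule.mem_sup_right (Submodule.subset_span ⟨(⟨a, h⟩, b, c), rfl⟩)
      obtain ⟨a, rfl⟩ := Nat.exists_eq_add_of_le h
      rw [show x ^ (p + a) * y ^ b * z ^ c = x ^ a * y ^ b * z ^ c * f₀ - x ^ a * y ^ b * z ^ c * t₀ by
        simp only [f₀, pow_add]; ring]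
      refine sub_mem (Submodule.mem_sup_left (Ideal.mem_span_singleton'.2 ⟨_, rfl⟩)) ?_
      suffices key : ∀ t ∈ LowAll, x ^ a * y ^ b * z ^ c * t ∈ U from key t₀ ht₀
      intro t ht
      induction ht using Submodule.span_induction with
      | mem t ht =>
        obtain ⟨⟨⟨a', ha'⟩, b', c'⟩, rfl⟩ := ht
        show x ^ a * y ^ b * z ^ c * (x ^ a' * y ^ b' * z ^ c') ∈ U
        rw [show x ^ a * y ^ b * z ^ c * (x ^ a' * y ^ b' * z ^ c') =
          x ^ (a + a') * y ^ (b + b') * z ^ (c + c') by simp only [pow_add]; ring]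
        exact ih _ (by omega) _ _
      | zero => rw [mul_zero]; exact zero_mem _
      | add t t' _ _ ht ht' => rw [mul_add]; exact add_mem ht ht'
      | smul r t _ ht => rw [mul_smul_comm]; exact Submodule.smul_mem _ _ ht
  have hUtop : ∀ f : S, f ∈ U := fun f =>
    (Submodule.span_le.2 (by rintro _ ⟨⟨a, b, c⟩, rfl⟩; exact hU a b c) : _ ≤ U) (hgen ▸ Submodule.mem_top)
  have hLow : ∀ f ∈ LowAll, ∃ L, f ∈ low k x y z p L := fun f hf => by
    induction hf using Submodule.span_induction with
    | mem t ht =>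
      obtain ⟨⟨⟨a, ha⟩, b, c⟩, rfl⟩ := ht
      refine ⟨a + p * b + 1, ?_⟩
      have h5 := slot_mem_low (k := k) x y z (p := p) (Nat.lt_succ_self (a + p * b)) c
      rw [slot_add x y hp] at h5
      simp only [slot, Nat.mod_eq_of_lt ha, Nat.div_eq_of_lt ha, pow_zero, mul_one] at h5
      rwa [mul_comm (y ^ b)] at h5
    | zero => exact ⟨0, zero_mem _⟩
    | add a b _ _ ha hb =>
      obtain ⟨La, ha⟩ := ha
      obtain ⟨Lb, hb⟩ := hb
      exact ⟨La + Lb, add_mem (low_mono x y z (by omega) ha) (low_mono x y z (by omega) hb)⟩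
    | smul r a _ ha =>
      obtain ⟨La, ha⟩ := ha
      exact ⟨La, Submodule.smul_mem _ _ ha⟩
  have hGens : I ≤ Gens := fun f hf => by
    obtain ⟨f₁, hf₁, f₂, hf₂, rfl⟩ := Submodule.mem_sup.1 (hUtop f)
    have h1 : f₁ ∈ Gens := Ideal.span_mono (Set.singleton_subset_iff.2 (Set.mem_insert _ _)) hf₁
    have h1' : f₁ ∈ I := (Ideal.span_le.2 (Set.singleton_subset_iff.2 hf₀)) hf₁
    obtain ⟨L, hL⟩ := hLow f₂ hf₂
    exact Gens.add_mem h1 (hgen1 L f₂ (by simpa using I.sub_mem hf h1') hL)
  -- the linear system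
  have hrow : ∀ n, ∃ c : ℕ → k[X], (∀ m, n + p ≤ m → c m = 0) ∧
      y * g n - aeval z (s n) * g (n + p) = ∑ m ∈ Finset.range (n + p), aeval z (c m) * g m := fun n => by
    refine hred _ _ (I.sub_mem (I.mul_mem_left _ (hgI n)) (I.mul_mem_left _ (hgI (n + p)))) ?_
    rw [show y * g n - aeval z (s n) * g (n + p) = y ^ 1 * tw n - aeval z (s n) * tw (n + p) by
      simp only [g]
      rw [show slot x y p (n + p) = y ^ 1 * slot x y p n by simpa using slot_add x y hp n 1, hs n, map_mul]
      ring]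
    exact sub_mem (by simpa using pow_mul_mem_low x y z hp 1 (htw n)) (aeval_mul_mem_low x y z _ (htw (n + p)))
  choose c hc0 hc using hrow
  let G : Fin p → S ⧸ I := fun a => Ideal.Quotient.mk I (x ^ (a : ℕ))
  have hG : Submodule.span k (Set.range fun t : Fin p × ℕ × ℕ => y ^ t.2.1 • z ^ t.2.2 • G t.1) = ⊤ := by
    refine eq_top_iff.2 fun q _ => ?_
    obtain ⟨f, rfl⟩ := Ideal.Quotient.mk_surjective q
    obtain ⟨f₁, hf₁, f₂, hf₂, rfl⟩ := Submodule.mem_sup.1 (hUtop f)
    rw [map_add, Ideal.Quotient.eq_zero_iff_mem.2 ((Ideal.span_le.2 (Set.singleton_subset_iff.2 hf₀)) hf₁), zero_add]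
    refine (Submodule.map_span_le (Ideal.Quotient.mkₐ k I).toLinearMap _ _).2 ?_ (Submodule.mem_map_of_mem hf₂)
    rintro _ ⟨⟨⟨a, ha⟩, b, c⟩, rfl⟩
    refine Submodule.subset_span ⟨(⟨a, ha⟩, b, c), ?_⟩
    show Ideal.Quotient.mk I (y ^ b * (z ^ c * x ^ a)) = Ideal.Quotient.mk I (x ^ a * y ^ b * z ^ c)
    congr 1; ring
  let Φ := (triMap (N := S ⧸ I) y z R p s c).restrictScalars k
  let L : (↥I →ₗ[S] (S ⧸ I)) →ₗ[k] (S ⧸ I) × LinearMap.ker Φ :=
    (evalHom ⟨f₀, hf₀⟩).prod (LinearMap.codRestrict _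
      (LinearMap.pi fun m : Fin (R + p) => evalHom ⟨g m.1, hgI m.1⟩) fun φ => by
      refine funext fun n => ?_
      show triMap y z R p s c _ n = 0
      rw [triMap_apply]
      show y • φ ⟨g n.1, hgI n.1⟩ - aeval z (s n.1) • φ ⟨g (n.1 + p), hgI _⟩ -
        ∑ m : Fin (R + p), aeval z (c n.1 m.1) • φ ⟨g m.1, hgI m.1⟩ = 0
      simp only [← map_smul, ← map_sum, ← map_sub]
      refine (congrArg φ (Subtype.ext ?_)).trans (map_zero φ)
      rw [Submodule.coe_sub, Submodule.coe_sub, Submodule.coe_sum]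
      show y * g n.1 - aeval z (s n.1) * g (n.1 + p) - ∑ m : Fin (R + p), aeval z (c n.1 m.1) * g m.1 = 0
      rw [hc, sub_eq_zero, Fin.sum_univ_eq_sum_range (fun m => aeval z (c n.1 m) * g m) (R + p)]
      refine Finset.sum_subset (Finset.range_subset_range.2 (by omega)) fun m _ hm => ?_
      rw [hc0 _ _ (by simpa using hm), map_zero, zero_mul])
  have hL : Function.Injective L := by
    refine (injective_iff_map_eq_zero L).2 fun φ hφ => LinearMap.ext fun a => ?_
    have hker : ∀ b (hb : b ∈ Gens), ∀ hbI : b ∈ I, φ ⟨b, hbI⟩ = 0 := fun b hb => by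
      induction hb using Submodule.span_induction with
      | mem b hb =>
        intro hbI
        rcases hb with rfl | ⟨m, rfl⟩
        · exact congrArg Prod.fst hφ
        · exact congrFun (congrArg Subtype.val (congrArg Prod.snd hφ)) m
      | zero => intro hbI; exact map_zero φ
      | add b b' hb hb' ih ih' =>
        intro hbI
        have hsub : Gens ≤ I := Ideal.span_le.2 (Set.insert_subset hf₀ (by rintro _ ⟨m, rfl⟩; exact hgI m.1))
        rw [show (⟨b + b', hbI⟩ : ↥I) = ⟨b, hsub hb⟩ + ⟨b', hsub hb'⟩ from rfl, map_add, ih, ih', add_zero]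
      | smul r b hb ih =>
        intro hbI
        have hsub : Gens ≤ I := Ideal.span_le.2 (Set.insert_subset hf₀ (by rintro _ ⟨m, rfl⟩; exact hgI m.1))
        rw [show (⟨r • b, hbI⟩ : ↥I) = r • ⟨b, hsub hb⟩ from rfl, map_smul, ih, smul_zero]
    exact hker a.1 (hGens a.2) a.2
  -- the staircase is outside the ideal
  have hcount : ∑ n ∈ Finset.range R, (w n).natDegree ≤ Module.finrank k (S ⧸ I) := by
    let T := Σ n : Fin R, Fin (w n.1).natDegree
    have hli : LinearIndependent k fun t : T => Ideal.Quotient.mk I (slot x y p t.1.1 * z ^ (t.2 : ℕ)) := by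
      rw [Fintype.linearIndependent_iff]
      intro γ hγ
      let P : Fin R → k[X] := fun n => ∑ j : Fin (w n.1).natDegree, γ ⟨n, j⟩ • X ^ (j : ℕ)
      have hPI : ∑ n : Fin R, aeval z (P n) * slot x y p n.1 ∈ I := by
        have h5 : ∑ t : T, γ t • (slot x y p t.1.1 * z ^ (t.2 : ℕ)) ∈ I := by
          refine Ideal.Quotient.eq_zero_iff_mem.1 ?_
          rw [map_sum]
          exact hγ
        convert h5 using 1
        simp only [P, T, Fintype.sum_sigma, map_sum, map_smul, map_pow, aeval_X, Finset.sum_mul,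
          smul_mul_assoc, mul_comm (z ^ _)]
      have hP : ∀ j, ∀ n : Fin R, R ≤ n.1 + j → P n = 0 := by
        intro j
        induction j with
        | zero => intro n hn; omega
        | succ j ih =>
          intro n hn
          have hmem : P n ∈ J n.1 := by
            refine ⟨∑ m ∈ Finset.univ.erase n, aeval z (P m) * slot x y p m.1,
              Submodule.sum_mem _ fun m hm => ?_, ?_⟩
            · rcases lt_trichotomy m.1 n.1 with h | h | h
              · exact aeval_mul_slot_mem x y z h _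
              · exact absurd (Fin.ext h) (Finset.ne_of_mem_erase hm)
              · rw [ih m (by omega), map_zero, zero_mul]; exact zero_mem _
            · rwa [Finset.add_sum_erase _ (fun m : Fin R => aeval z (P m) * slot x y p m.1) (Finset.mem_univ n)]
          by_contra hne
          have h1 := natDegree_le_of_dvd (hdvd _ _ hmem) hne
          obtain ⟨i, hi, hi'⟩ : ∃ i, (w n.1).natDegree ≤ i ∧ (P n).coeff i ≠ 0 :=
            ⟨(P n).natDegree, h1, leadingCoeff_ne_zero.2 hne⟩
          apply hi'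
          simp only [P, finset_sum_coeff, coeff_smul, coeff_X_pow]
          exact Finset.sum_eq_zero fun l _ => by rw [if_neg (by omega), smul_zero]
      intro t
      have h5 := congrArg (fun q : k[X] => q.coeff t.2) (hP R t.1 (by omega))
      simp only [P, finset_sum_coeff, coeff_smul, coeff_X_pow, coeff_zero, smul_eq_mul, mul_ite, mul_one, mul_zero,
        Fin.val_inj, Finset.sum_ite_eq, Finset.mem_univ, if_true] at h5
      exact h5
    refine le_trans (le_of_eq ?_) hli.fintype_card_le_finrank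
    simp only [T, Fintype.card_sigma, Fintype.card_fin]
    exact (Fin.sum_univ_eq_sum_range (fun n => (w n).natDegree) R).symm
  refine (LinearMap.finrank_le_finrank_of_injective hL).trans ?_
  rw [Module.finrank_prod]
  have hk := finrank_ker_triMap_le (k := k) y z G hG R p hp w s c (fun n _ => hs n) hunit
    (fun n _ => hw0 n) hc0
  rw [Fintype.card_fin] at hk
  have h6 := Nat.mul_le_mul_left p hcount
  have h7 : (2 * p + 1) * Module.finrank k (S ⧸ I) =
      Module.finrank k (S ⧸ I) + (p * Module.finrank k (S ⧸ I) + p * Module.finrank k (S ⧸ I)) := by ring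
  rw [h7]
  exact Nat.add_le_add_left (hk.trans (Nat.add_le_add_left h6 _)) _

end Groth.Agent.HilbP8
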