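import Groth.Agent.HilbP8.Coker

/-!
# Solutions of a triangular system attached to a staircase
-/

set_option autoImplicit false
universe u

open Polynomial

namespace Groth.Agent.HilbP8

variable {k : Type u} [Field k] {S : Type u} [CommRing S] [Algebra k S] {N : Type u} [AddCommGroup N]
  [Module k N] [Module S N] [IsScalarTower k S N]

/-- row `n`: `y u_n - s_n(z) u_(n+p) - ∑ c_(n,m)(z) u_m` -/
noncomputable def triMap (y z : S) (R p : ℕ) (s : ℕ → k[X]) (c : ℕ → ℕ → k[X]) :
    (Fin (R + p) → N) →ₗ[S] (Fin R → N) :=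
  LinearMap.pi fun n =>
    y • LinearMap.proj (⟨n.1, by omega⟩ : Fin (R + p)) -
      aeval z (s n.1) • LinearMap.proj (⟨n.1 + p, by omega⟩ : Fin (R + p)) -
      ∑ m : Fin (R + p), aeval z (c n.1 m.1) • LinearMap.proj m

theorem triMap_apply (y z : S) (R p : ℕ) (s : ℕ → k[X]) (c : ℕ → ℕ → k[X]) (u : Fin (R + p) → N) (n : Fin R) :
    triMap y z R p s c u n = y • u ⟨n.1, by omega⟩ - aeval z (s n.1) • u ⟨n.1 + p, by omega⟩ -
      ∑ m : Fin (R + p), aeval z (c n.1 m.1) • u m := by
  simp [triMap, LinearMap.sum_apply]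

set_option maxHeartbeats 800000 in
/-- The solution space of the triangular system is at most `p · dim N` + (generators) × (total degree). -/
theorem finrank_ker_triMap_le [Module.Finite k N] (y z : S) {ι : Type} [Fintype ι] (G : ι → N)
    (hG : Submodule.span k (Set.range fun t : ι × ℕ × ℕ => y ^ t.2.1 • z ^ t.2.2 • G t.1) = ⊤)
    (R p : ℕ) (hp : 0 < p) (w s : ℕ → k[X]) (c : ℕ → ℕ → k[X])
    (hw : ∀ n, n < R → w n = w (n + p) * s n) (hw1 : ∀ n, R ≤ n → n < R + p → IsUnit (w n))
    (hw0 : ∀ n, n < R → w n ≠ 0) (hc : ∀ n m, n + p ≤ m → c n m = 0) :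
    Module.finrank k (LinearMap.ker ((triMap (N := N) y z R p s c).restrictScalars k)) ≤
      p * Module.finrank k N + Fintype.card ι * ∑ n ∈ Finset.range R, (w n).natDegree := by
  classical
  let Φ := triMap (N := N) y z R p s c
  let e : ℕ → N →ₗ[S] ((Fin R → N) ⧸ LinearMap.range Φ) := fun l =>
    if h : l < R then (LinearMap.range Φ).mkQ ∘ₗ LinearMap.single S (fun _ => N) ⟨l, h⟩ else 0
  have he : ∀ l (h : l < R) w, e l w = Submodule.Quotient.mk (Pi.single ⟨l, h⟩ w) := fun l h w => by
    simp [e, h]
  have he0 : ∀ l, R ≤ l → e l = 0 := fun l h => by simp [e, not_lt.2 h]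
  -- the column relations
  have hcol : ∀ j, j < R + p → ∀ u : N, y • e j u =
      (if p ≤ j then aeval z (s (j - p)) • e (j - p) u else 0) +
        ∑ n : Fin R, aeval z (c n.1 j) • e n.1 u := fun j hj u => by
    have h0 : (0 : (Fin R → N) ⧸ LinearMap.range Φ) = Submodule.Quotient.mk (Φ (Pi.single ⟨j, hj⟩ u)) :=
      ((Submodule.Quotient.mk_eq_zero (LinearMap.range Φ)).2 (LinearMap.mem_range_self Φ _)).symm
    rw [← Finset.univ_sum_single (Φ (Pi.single ⟨j, hj⟩ u))] at h0
    have h1 : (0 : (Fin R → N) ⧸ LinearMap.range Φ) = ∑ n : Fin R, e n.1 (Φ (Pi.single ⟨j, hj⟩ u) n) := by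
      rw [h0, ← Submodule.mkQ_apply, map_sum]
      exact Finset.sum_congr rfl fun n _ => (he n.1 n.2 _).symm
    have h2 : ∀ n : Fin R, Φ (Pi.single ⟨j, hj⟩ u) n = (if n.1 = j then y • u else 0) -
        (if n.1 + p = j then aeval z (s n.1) • u else 0) - aeval z (c n.1 j) • u := fun n => by
      rw [triMap_apply, Finset.sum_eq_single (⟨j, hj⟩ : Fin (R + p))]
      · simp [Pi.single_apply, Fin.ext_iff]
      · intro m _ hm; rw [Pi.single_eq_of_ne hm, smul_zero]
      · intro h; exact absurd (Finset.mem_univ _) h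
    simp only [h2, map_sub, apply_ite (e _), map_smul, map_zero, Finset.sum_sub_distrib] at h1
    rw [eq_comm, sub_eq_zero, sub_eq_iff_eq_add'] at h1
    have h3 : (∑ n : Fin R, if n.1 = j then y • e n.1 u else 0) = y • e j u := by
      by_cases h : j < R
      · rw [Finset.sum_eq_single (⟨j, h⟩ : Fin R)]
        · simp
        · intro n _ hn; rw [if_neg]; exact fun h' => hn (Fin.ext h')
        · intro h'; exact absurd (Finset.mem_univ _) h'
      · rw [he0 j (not_lt.1 h), LinearMap.zero_apply, smul_zero]
        exact Finset.sum_eq_zero fun n _ => if_neg (by omega)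
    have h4 : (∑ n : Fin R, if n.1 + p = j then aeval z (s n.1) • e n.1 u else 0) =
        if p ≤ j then aeval z (s (j - p)) • e (j - p) u else 0 := by
      by_cases h : p ≤ j
      · rw [if_pos h, Finset.sum_eq_single (⟨j - p, by omega⟩ : Fin R)]
        · rw [if_pos (by show j - p + p = j; omega)]
        · intro n _ hn; rw [if_neg]; intro h'; apply hn; apply Fin.ext; show n.1 = j - p; omega
        · intro h'; exact absurd (Finset.mem_univ _) h'
      · rw [if_neg h]; exact Finset.sum_eq_zero fun n _ => if_neg (by omega)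
    rw [h3, h4] at h1
    rw [h1]
  -- spans of the later vectors
  let Lt : ℕ → Submodule k ((Fin R → N) ⧸ LinearMap.range Φ) := fun n =>
    Submodule.span k (Set.range fun t : ι × {m : ℕ // n ≤ m} × ℕ => z ^ t.2.2 • e t.2.1.1 (G t.1))
  have hmem : ∀ n m, n ≤ m → ∀ (a : ι) (b : ℕ), z ^ b • e m (G a) ∈ Lt n := fun n m h a b =>
    Submodule.subset_span ⟨(a, ⟨m, h⟩, b), rfl⟩
  have hz : ∀ n (P : k[X]) x, x ∈ Lt n → aeval z P • x ∈ Lt n := fun n P => by
    induction P using Polynomial.induction_on' with
    | add P Q hP hQ => intro x hx; rw [map_add, add_smul]; exact add_mem (hP x hx) (hQ x hx)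
    | monomial b r =>
      intro x hx
      induction hx using Submodule.span_induction with
      | mem x hx =>
        obtain ⟨⟨a, ⟨m, hm⟩, b'⟩, rfl⟩ := hx
        rw [aeval_monomial, mul_smul, ← mul_smul (z ^ b), ← pow_add, algebraMap_smul]
        exact Submodule.smul_mem _ _ (hmem n m hm a _)
      | zero => rw [smul_zero]; exact zero_mem _
      | add x y _ _ hx hy => rw [smul_add]; exact add_mem hx hy
      | smul r' x _ hx => rw [smul_comm]; exact Submodule.smul_mem _ _ hx
  have hmem' : ∀ n m, n ≤ m → ∀ (P : k[X]) (a : ι), aeval z P • e m (G a) ∈ Lt n := fun n m h P a =>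
    hz n P _ (by simpa using hmem n m h a 0)
  have hy : ∀ n x, x ∈ Lt (n + p) → y • x ∈ Lt n := fun n x hx => by
    induction hx using Submodule.span_induction with
    | mem x hx =>
      obtain ⟨⟨a, ⟨m, hm⟩, b⟩, rfl⟩ := hx
      show y • z ^ b • e m (G a) ∈ Lt n
      rw [smul_comm]
      by_cases hmR : m < R + p
      · have h := hcol m hmR (G a)
        have : y • e m (G a) ∈ Lt n := by
          rw [h]
          refine add_mem ?_ (Submodule.sum_mem _ fun r _ => ?_)
          · rw [if_pos (by omega)]; exact hmem' n _ (by omega) _ a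
          · by_cases hr : r.1 + p ≤ m
            · rw [hc _ _ hr, map_zero, zero_smul]; exact zero_mem _
            · exact hmem' n _ (by omega) _ a
        simpa using hz n (X ^ b) _ this
      · rw [he0 m (by omega), LinearMap.zero_apply, smul_zero, smul_zero]; exact zero_mem _
    | zero => rw [smul_zero]; exact zero_mem _
    | add x y _ _ hx hy => rw [smul_add]; exact add_mem hx hy
    | smul r' x _ hx => rw [smul_comm]; exact Submodule.smul_mem _ _ hx
  -- the pivots
  have hpiv : ∀ j n, R ≤ n + j → ∀ a, aeval z (w n) • e n (G a) ∈ Lt (n + 1) := by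
    intro j
    induction j with
    | zero => intro n hn a; rw [he0 n (by omega), LinearMap.zero_apply, smul_zero]; exact zero_mem _
    | succ j ih =>
      intro n hn a
      by_cases h : n < R
      · rw [hw n h, map_mul, mul_smul]
        have h1 := hcol (n + p) (by omega) (G a)
        rw [if_pos (by omega), Nat.add_sub_cancel, ← sub_eq_iff_eq_add] at h1
        rw [← h1, smul_sub]
        refine sub_mem ?_ (hz _ _ _ (Submodule.sum_mem _ fun r _ => ?_))
        · rw [smul_comm]
          refine hy _ _ ?_
          rw [show n + 1 + p = n + p + 1 by omega]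
          exact ih (n + p) (by omega) a
        · by_cases hr : r.1 + p ≤ n + p
          · rw [hc _ _ hr, map_zero, zero_smul]; exact zero_mem _
          · exact hmem' _ _ (by omega) _ a
      · rw [he0 n (by omega), LinearMap.zero_apply, smul_zero]; exact zero_mem _
  let W : Submodule k ((Fin R → N) ⧸ LinearMap.range Φ) :=
    Submodule.span k (Set.range fun t : ι × (Σ l : Fin R, Fin (w l).natDegree) => z ^ (t.2.2 : ℕ) • e t.2.1 (G t.1))
  have hW : ∀ j n, R ≤ n + j → Lt n ≤ W := by
    intro j
    induction j with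
    | zero =>
      intro n hn
      refine Submodule.span_le.2 ?_
      rintro _ ⟨⟨a, ⟨m, hm⟩, b⟩, rfl⟩
      show z ^ b • e m (G a) ∈ W
      rw [he0 m (by omega), LinearMap.zero_apply, smul_zero]; exact zero_mem _
    | succ j ih =>
      intro n hn
      refine Submodule.span_le.2 ?_
      rintro _ ⟨⟨a, ⟨m, hm⟩, b⟩, rfl⟩
      show z ^ b • e m (G a) ∈ W
      rcases Nat.lt_or_eq_of_le hm with hlt | heq
      · exact ih (n + 1) (by omega) (hmem _ _ hlt a b)
      subst heq
      by_cases h : n < R
      · rw [show z ^ b = aeval z ((X : k[X]) ^ b) by simp, ← EuclideanDomain.mod_add_div (X ^ b : k[X]) (w n),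
          map_add, add_smul]
        refine add_mem ?_ ?_
        · rw [aeval_eq_sum_range, Finset.sum_smul]
          refine Submodule.sum_mem _ fun i hi => ?_
          rw [smul_assoc]
          by_cases hi0 : (X ^ b % w n : k[X]).coeff i = 0
          · rw [hi0, zero_smul]; exact zero_mem _
          · have hlt : i < (w n).natDegree := by
              have h5 := le_natDegree_of_ne_zero hi0
              have h6 := EuclideanDomain.mod_lt (X ^ b : k[X]) (hw0 n h)
              have h7 : (X ^ b % w n : k[X]) ≠ 0 := fun h7 => hi0 (by rw [h7, coeff_zero])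
              exact lt_of_le_of_lt h5 (natDegree_lt_natDegree h7 h6)
            exact Submodule.smul_mem _ _ (Submodule.subset_span ⟨(a, ⟨⟨n, h⟩, ⟨i, hlt⟩⟩), rfl⟩)
        · rw [mul_comm (w n), map_mul, mul_smul]
          exact ih (n + 1) (by omega) (hz _ _ _ (hpiv R n (by omega) a))
      · rw [he0 n (by omega), LinearMap.zero_apply, smul_zero]; exact zero_mem _
  have hW0 : Lt 0 ≤ W := hW R 0 (by omega)
  have hyL : ∀ x, x ∈ Lt 0 → y • x ∈ Lt 0 := fun x hx => by
    induction hx using Submodule.span_induction with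
    | mem x hx =>
      obtain ⟨⟨a, ⟨m, hm⟩, b⟩, rfl⟩ := hx
      show y • z ^ b • e m (G a) ∈ Lt 0
      rw [smul_comm]
      by_cases hmR : m < R + p
      · have : y • e m (G a) ∈ Lt 0 := by
          rw [hcol m hmR (G a)]
          refine add_mem ?_ (Submodule.sum_mem _ fun r _ => hmem' 0 _ (Nat.zero_le _) _ a)
          split
          · exact hmem' 0 _ (Nat.zero_le _) _ a
          · exact zero_mem _
        simpa using hz 0 (X ^ b) _ this
      · rw [he0 m (by omega), LinearMap.zero_apply, smul_zero, smul_zero]; exact zero_mem _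
    | zero => rw [smul_zero]; exact zero_mem _
    | add x y _ _ hx hy => rw [smul_add]; exact add_mem hx hy
    | smul r' x _ hx => rw [smul_comm]; exact Submodule.smul_mem _ _ hx
  have heW : ∀ l u, e l u ∈ W := fun l u => by
    have hu : u ∈ Submodule.span k (Set.range fun t : ι × ℕ × ℕ => y ^ t.2.1 • z ^ t.2.2 • G t.1) := by
      rw [hG]; trivial
    have : Submodule.span k (Set.range fun t : ι × ℕ × ℕ => y ^ t.2.1 • z ^ t.2.2 • G t.1) ≤
        W.comap ((e l).restrictScalars k) := Submodule.span_le.2 (by
      rintro _ ⟨⟨a, b, b'⟩, rfl⟩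
      show e l (y ^ b • z ^ b' • G a) ∈ W
      rw [map_smul, map_smul]
      refine hW0 ?_
      clear hu
      induction b with
      | zero => rw [pow_zero, one_smul]; exact hmem 0 l (Nat.zero_le _) a b'
      | succ b ihb => rw [pow_succ', mul_smul]; exact hyL _ ihb)
    exact this hu
  let M := (LinearMap.range Φ).mkQ.restrictScalars k
  have hWtop : W = ⊤ := eq_top_iff.2 fun x _ => by
    obtain ⟨f, rfl⟩ := Submodule.Quotient.mk_surjective _ x
    rw [← Finset.univ_sum_single f]
    show M (∑ i, Pi.single i (f i)) ∈ W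
    rw [map_sum]
    exact Submodule.sum_mem _ fun i _ => by
      show Submodule.Quotient.mk (Pi.single i (f i)) ∈ W
      rw [← he i.1 i.2]
      exact heW _ _
  have hQ : Module.finrank k ((Fin R → N) ⧸ LinearMap.range Φ) ≤
      Fintype.card ι * ∑ n ∈ Finset.range R, (w n).natDegree := by
    rw [← finrank_top k ((Fin R → N) ⧸ LinearMap.range Φ), ← hWtop]
    refine (finrank_range_le_card _).trans_eq ?_
    rw [Fintype.card_prod, Fintype.card_sigma, ← Fin.sum_univ_eq_sum_range]
    simp
  have h3 : LinearMap.ker M = LinearMap.range (Φ.restrictScalars k) := by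
    ext x
    exact Submodule.Quotient.mk_eq_zero _
  have h5 : Function.Surjective M := fun x => Submodule.Quotient.mk_surjective _ x
  have h1 := finrank_ker_add (Φ.restrictScalars k) M h5 h3
  rw [finrank_fin_fun' (k := k) (N := N), finrank_fin_fun' (k := k) (N := N)] at h1
  have h4 : (R + p) * Module.finrank k N = R * Module.finrank k N + p * Module.finrank k N := by ring
  exact le_of_bound h1 h4 hQ

end Groth.Agent.HilbP8
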